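import Cfsg.Prelude.Def_Spor_ON
import Cfsg.Prelude.Def_Sporadic

/-!
From a projective representation of the presented O'Nan group with scalar values of order three to a triple cover
inside the special linear group (helper41).

* `eq_one_of_hom`, `det_eq_one`, `cover_generic`
-/

set_option autoImplicit false

namespace Cfsg.Agent.ONCover

open Matrix Cfsg.Spor

local instance : Fact (Nat.Prime 7) := ⟨by norm_num⟩

/-- The group as presented. -/
abbrev GON : Type := CoxPresented ON.Gen ON.edges ON.extra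

/-- The relators. -/
abbrev onRels : Set (FreeGroup ON.Gen) := coxRelators ON.edges ∪ {r | r ∈ ON.extra}

theorem eq_one_of_hom (hON : Cfsg.IsON GON) {A : Type} [Group A] (θ : GON →* A) (hA : ∀ x y : A, x * y = y * x) :
    θ = 1 := by
  have := hON.1
  rcases (MonoidHom.normal_ker θ).eq_bot_or_eq_top with h | h
  · exfalso
    have hinj := (MonoidHom.ker_eq_bot_iff θ).mp h
    have hc : ∀ x y : GON, x * y = y * x := fun x y => hinj (by rw [map_mul, map_mul, hA])
    let := ({ (inferInstance : Group GON) with mul_comm := hc } : CommGroup GON)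
    have : Finite GON := Nat.finite_of_card_ne_zero (by rw [hON.2]; norm_num)
    have hp : (Nat.card GON).Prime := IsSimpleGroup.prime_card
    rw [hON.2] at hp
    exact Nat.not_prime_of_dvd_of_ne (show 2 ∣ 460815505920 by norm_num) (by norm_num) (by norm_num) hp
  · exact MonoidHom.ext fun x => MonoidHom.mem_ker.mp (h ▸ Subgroup.mem_top x)

theorem comp_mk {A : Type} [Group A] (φ : FreeGroup ON.Gen →* A) (h : ∀ x ∈ onRels, φ x = 1) :
    ∃ θ : GON →* A, ∀ r, θ (PresentedGroup.mk _ r) = φ r := by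
  have he0 : FreeGroup.lift (fun x => φ (FreeGroup.of x)) = φ := FreeGroup.ext_hom _ _ fun x => by simp
  have hrel : ∀ x ∈ onRels, FreeGroup.lift (fun y => φ (FreeGroup.of y)) x = 1 := fun x hx => by rw [he0]; exact h x hx
  refine ⟨PresentedGroup.toGroup hrel, fun r => ?_⟩
  have he : (PresentedGroup.toGroup hrel).comp (PresentedGroup.mk _) = φ := FreeGroup.ext_hom _ _ fun x => by
    show PresentedGroup.toGroup hrel (PresentedGroup.of x) = _
    rw [PresentedGroup.toGroup.of]
  exact DFunLike.congr_fun he r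

variable {n : Type} [Fintype n] [DecidableEq n]

theorem det_val (g : GL n (ZMod 7)) :
    ((Matrix.GeneralLinearGroup.det g : (ZMod 7)ˣ) : ZMod 7) = (g : Matrix n n (ZMod 7)).det := rfl

theorem smul_one_det (hn : Fintype.card n = 45) {s : ZMod 7} (hs : s ^ 3 = 1) :
    (s • (1 : Matrix n n (ZMod 7))).det = 1 := by
  rw [Matrix.det_smul, Matrix.det_one, mul_one, hn, show 45 = 3 * 15 by norm_num, pow_mul, hs, one_pow]

theorem det_eq_one (hON : Cfsg.IsON GON) (hn : Fintype.card n = 45) (φ : FreeGroup ON.Gen →* GL n (ZMod 7))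
    (hφ : ∀ x ∈ onRels, ∃ s : ZMod 7, s ^ 3 = 1 ∧ (φ x : Matrix n n (ZMod 7)) = s • 1) (r : FreeGroup ON.Gen) :
    (φ r : Matrix n n (ZMod 7)).det = 1 := by
  obtain ⟨θ, hθ⟩ := comp_mk (Matrix.GeneralLinearGroup.det.comp φ) fun x hx => by
    obtain ⟨s, hs, hx'⟩ := hφ x hx
    apply Units.ext
    rw [MonoidHom.comp_apply, det_val, hx', smul_one_det hn hs, Units.val_one]
  have h := hθ r
  rw [eq_one_of_hom hON θ (fun x y => mul_comm x y), MonoidHom.one_apply, MonoidHom.comp_apply] at h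
  rw [← det_val, ← h, Units.val_one]

theorem exists_scalar_of_center {g : GL n (ZMod 7)} (h : g ∈ Subgroup.center (GL n (ZMod 7))) :
    ∃ s : (ZMod 7)ˣ, (g : Matrix n n (ZMod 7)) = (s : ZMod 7) • 1 := by
  rw [Matrix.GeneralLinearGroup.center_eq_range_scalar] at h
  obtain ⟨s, rfl⟩ := h
  refine ⟨s, ?_⟩
  show Matrix.scalar n (s : ZMod 7) = _
  simp [Matrix.scalar_apply, Matrix.smul_one_eq_diagonal]

theorem mem_center_of_scalar {g : GL n (ZMod 7)} {s : ZMod 7} (h : (g : Matrix n n (ZMod 7)) = s • 1) :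
    g ∈ Subgroup.center (GL n (ZMod 7)) := by
  rw [Subgroup.mem_center_iff]
  intro y
  apply Units.ext
  rw [Units.val_mul, Units.val_mul, h, Matrix.mul_smul, Matrix.smul_mul, mul_one, one_mul]

theorem cover_generic (hON : Cfsg.IsON GON) (hn : Fintype.card n = 45) (φ : FreeGroup ON.Gen →* GL n (ZMod 7))
    (hφ : ∀ x ∈ onRels, ∃ s : ZMod 7, s ^ 3 = 1 ∧ (φ x : Matrix n n (ZMod 7)) = s • 1)
    (r₀ : FreeGroup ON.Gen) (hr₀ : φ r₀ ∉ Subgroup.center (GL n (ZMod 7)))
    (r₂ : FreeGroup ON.Gen) (hr₂ : (φ r₂ : Matrix n n (ZMod 7)) = (2 : ZMod 7) • 1) :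
    ∃ H : Subgroup (Matrix.SpecialLinearGroup n (ZMod 7)),
      Nat.card (Subgroup.center H) = 3 ∧ Cfsg.IsON (H ⧸ Subgroup.center H) := by
  obtain ⟨i₀⟩ : Nonempty n := Fintype.card_pos_iff.mp (by omega)
  have hdet := det_eq_one hON hn φ hφ
  let Fs : FreeGroup ON.Gen →* Matrix.SpecialLinearGroup n (ZMod 7) :=
    { toFun := fun r => ⟨(φ r : Matrix n n (ZMod 7)), hdet r⟩
      map_one' := Subtype.ext (by simp)
      map_mul' := fun x y => Subtype.ext (show (φ (x*y) : Matrix n n (ZMod 7)) = (φ x : Matrix n n (ZMod 7)) * (φ y : Matrix n n (ZMod 7)) by rw [map_mul, Units.val_mul]) }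
  have hFs : ∀ r, Matrix.SpecialLinearGroup.toGL (Fs r) = φ r := fun r => Units.ext rfl
  obtain ⟨θ, hθ⟩ := comp_mk ((QuotientGroup.mk' (Subgroup.center (GL n (ZMod 7)))).comp φ) fun x hx => by
    obtain ⟨s, -, hx'⟩ := hφ x hx
    exact (QuotientGroup.eq_one_iff _).mpr (mem_center_of_scalar hx')
  have hs := hON.1
  have hθinj : Function.Injective θ := by
    rw [← MonoidHom.ker_eq_bot_iff]
    refine (MonoidHom.normal_ker θ).eq_bot_or_eq_top.resolve_right fun h => hr₀ ?_
    exact (QuotientGroup.eq_one_iff _).mp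
      ((hθ r₀).symm.trans (MonoidHom.mem_ker.mp (h ▸ Subgroup.mem_top _)))
  let H : Subgroup (Matrix.SpecialLinearGroup n (ZMod 7)) := Fs.range
  let ψ : H →* GL n (ZMod 7) ⧸ Subgroup.center (GL n (ZMod 7)) :=
    ((QuotientGroup.mk' _).comp Matrix.SpecialLinearGroup.toGL).comp H.subtype
  have hψ : ∀ r, ψ ⟨Fs r, r, rfl⟩ = θ (PresentedGroup.mk _ r) := fun r => by
    rw [hθ]
    show QuotientGroup.mk' _ (Matrix.SpecialLinearGroup.toGL (Fs r)) = _
    rw [hFs]
    rfl
  have hrange : ψ.range = θ.range := by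
    ext q
    constructor
    · rintro ⟨⟨_, r, rfl⟩, rfl⟩
      exact ⟨_, (hψ r).symm⟩
    · rintro ⟨x, rfl⟩
      obtain ⟨r, rfl⟩ := PresentedGroup.mk_surjective _ x
      exact ⟨_, hψ r⟩
  let e : GON ≃* ψ.range := (MonoidHom.ofInjective hθinj).trans (MulEquiv.subgroupCongr hrange.symm)
  have hsim : IsSimpleGroup ψ.range := e.symm.isSimpleGroup
  have hnab : ¬ ∀ x y : ψ.range, x * y = y * x := by
    intro hc
    have h1 := eq_one_of_hom hON e.toMonoidHom hc
    have hss : Subsingleton GON :=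
      ⟨fun x y => e.injective ((DFunLike.congr_fun h1 x).trans (DFunLike.congr_fun h1 y).symm)⟩
    have : Nat.card GON = 1 := Nat.card_of_subsingleton 1
    rw [hON.2] at this
    norm_num at this
  have hcen : Subgroup.center H = ψ.ker := by
    apply le_antisymm
    · intro z hz
      have hz' : ψ.rangeRestrict z ∈ Subgroup.center ψ.range := by
        rw [Subgroup.mem_center_iff]
        rintro ⟨_, x, rfl⟩
        refine Subtype.ext ?_
        show ψ x * ψ z = ψ z * ψ x
        rw [← map_mul, ← map_mul, Subgroup.mem_center_iff.mp hz x]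
      rcases (inferInstance : (Subgroup.center ψ.range).Normal).eq_bot_or_eq_top with h | h
      · rw [h, Subgroup.mem_bot] at hz'
        exact MonoidHom.mem_ker.mpr (congrArg Subtype.val hz')
      · exact absurd (fun x y => (Subgroup.mem_center_iff.mp (h ▸ Subgroup.mem_top y) x)) hnab
    · intro z hz
      have hc : Matrix.SpecialLinearGroup.toGL (z : Matrix.SpecialLinearGroup n (ZMod 7)) ∈ Subgroup.center _ :=
        (QuotientGroup.eq_one_iff _).mp (MonoidHom.mem_ker.mp hz)
      rw [Subgroup.mem_center_iff]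
      intro x
      have := Subgroup.mem_center_iff.mp hc
        (Matrix.SpecialLinearGroup.toGL (x : Matrix.SpecialLinearGroup n (ZMod 7)))
      rw [← map_mul, ← map_mul] at this
      exact Subtype.ext (Matrix.SpecialLinearGroup.toGL_injective this)
  have key : ∀ z : Subgroup.center H, ∃ s : ZMod 7, s ^ 3 = 1 ∧
      ((z : H) : Matrix.SpecialLinearGroup n (ZMod 7)).1 = s • 1 := by
    intro z
    have hz : (z : H) ∈ ψ.ker := hcen ▸ z.2
    obtain ⟨s, hs'⟩ := exists_scalar_of_center ((QuotientGroup.eq_one_iff _).mp (MonoidHom.mem_ker.mp hz))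
    refine ⟨s, ?_, hs'⟩
    have hd := ((z : H) : Matrix.SpecialLinearGroup n (ZMod 7)).2
    rw [show ((z : H) : Matrix.SpecialLinearGroup n (ZMod 7)).1 = (s : ZMod 7) • 1 from hs', Matrix.det_smul,
      Matrix.det_one, mul_one, hn] at hd
    calc ((s : ZMod 7)) ^ 3 = ((s : ZMod 7) ^ 6) ^ 7 * (s : ZMod 7) ^ 3 := by
          rw [show (6 : ℕ) = 7 - 1 from rfl, ZMod.pow_card_sub_one_eq_one s.ne_zero, one_pow, one_mul]
      _ = (s : ZMod 7) ^ 45 := by rw [← pow_mul, ← pow_add]
      _ = 1 := hd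
  refine ⟨H, ?_, ?_⟩
  · let f : Subgroup.center H → {s : ZMod 7 // s ^ 3 = 1} := fun z => ⟨(key z).choose, (key z).choose_spec.1⟩
    have hf : ∀ z : Subgroup.center H, ((z : H) : Matrix.SpecialLinearGroup n (ZMod 7)).1 = (f z).1 • 1 := fun z => (key z).choose_spec.2
    have hinj : Function.Injective f := fun x y h => by
      refine Subtype.ext (Subtype.ext (Subtype.ext ?_))
      rw [hf x, hf y, h]
    have hdiag : ∀ s t : ZMod 7, (s • (1 : Matrix n n (ZMod 7))) = t • 1 → s = t := fun s t h => by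
      simpa using congrFun (congrFun h i₀) i₀
    have hmemc : (⟨Fs r₂, r₂, rfl⟩ : H) ∈ Subgroup.center H := by
      rw [hcen]
      refine MonoidHom.mem_ker.mpr ((QuotientGroup.eq_one_iff _).mpr ?_)
      show Matrix.SpecialLinearGroup.toGL (Fs r₂) ∈ _
      rw [hFs]
      exact mem_center_of_scalar hr₂
    let z2 : Subgroup.center H := ⟨_, hmemc⟩
    have hz2 : (f z2).1 = 2 := hdiag _ _ ((hf z2).symm.trans hr₂)
    have hz4 : (f (z2 * z2)).1 = 4 := by
      refine hdiag _ _ ((hf (z2 * z2)).symm.trans ?_)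
      show (φ r₂ : Matrix n n (ZMod 7)) * (φ r₂ : Matrix n n (ZMod 7)) = _
      rw [hr₂, smul_mul_smul_comm, one_mul]
      rfl
    have hz1 : (f 1).1 = 1 := hdiag _ _ ((hf 1).symm.trans (one_smul (ZMod 7) _).symm)
    have hsurj : Function.Surjective f := by
      rintro ⟨s, hs'⟩
      have : ∀ s : ZMod 7, s ^ 3 = 1 → s = 1 ∨ s = 2 ∨ s = 4 := by decide
      rcases this s hs' with rfl | rfl | rfl
      · exact ⟨1, Subtype.ext hz1⟩
      · exact ⟨z2, Subtype.ext hz2⟩
      · exact ⟨z2 * z2, Subtype.ext hz4⟩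
    rw [Nat.card_congr (Equiv.ofBijective f ⟨hinj, hsurj⟩), Nat.card_eq_fintype_card]
    decide
  · let q : H ⧸ Subgroup.center H ≃* ψ.range :=
      (QuotientGroup.quotientMulEquivOfEq hcen).trans (QuotientGroup.quotientKerEquivRange ψ)
    refine ⟨q.isSimpleGroup, ?_⟩
    rw [Nat.card_congr q.toEquiv, ← Nat.card_congr e.toEquiv]
    exact hON.2

end Cfsg.Agent.ONCover
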