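import Cfsg.Agent.Lib.CosetEnum.Pack

/-!
Square matrices over the field of 7 elements as single packed numbers, with a fast product (helper41).

* `IsRep`: a number represents a matrix
* `mmul`, `IsRep.mul`, `IsRep.mk`, `IsRep.unique`
-/

set_option autoImplicit false

namespace Cfsg.Agent.ONCover

open Cfsg.Agent.CosetEnum

/-- The number represents the matrix: 32-bit lanes, row by row. -/
def IsRep (d : ℕ) (C : ℕ) (A : Matrix (Fin d) (Fin d) (ZMod 7)) : Prop :=
  ∃ f : ℕ → ℕ, C = pack 32 (d * d) f ∧ (∀ t < d * d, f t < 7) ∧ ∀ i k : Fin d, A i k = (f (d * i + k) : ZMod 7)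

/-- The same value in every lane. -/
def splat (d c : ℕ) : ℕ := pack (32 * d) d fun _ => pack 32 d fun _ => c

/-- Mask of one column. -/
def colMask (d : ℕ) : ℕ := pack (32 * d) d fun _ => 2 ^ 32 - 1

/-- The unreduced product. -/
noncomputable def macc (d C D : ℕ) : ℕ → ℕ := fun n =>
  Nat.rec (motive := fun _ => ℕ) 0 (fun j ih => force ih fun r => Nat.add r
    (Nat.mul (Nat.land (Nat.shiftRight C (Nat.mul 32 j)) (colMask d)) (lane (32 * d) D j))) n

/-- All lanes modulo 7, for lanes below `2 ^ 14`. -/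
noncomputable def mred (d C : ℕ) : ℕ :=
  Nat.sub C (Nat.mul (Nat.land (Nat.shiftRight (Nat.mul C 37450) 18) (splat d (2 ^ 14 - 1))) 7)

/-- The product. -/
noncomputable def mmul (d C D : ℕ) : ℕ := force (macc d C D d) fun P => mred d P

theorem pack_nest {B n : ℕ} : ∀ (m : ℕ) (F : ℕ → ℕ → ℕ),
    pack (B * n) m (fun i => pack B n (F i)) = pack B (m * n) (fun t => F (t / n) (t % n))
  | 0, _ => by simp [pack]
  | m + 1, F => by
    rw [show (m + 1) * n = n + m * n by ring]
    conv_rhs => rw [pack_append]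
    show pack B n (F 0) + 2 ^ (B * n) * pack (B * n) m (fun i => pack B n (F (i + 1))) = _
    rw [pack_nest m fun i => F (i + 1), Nat.mul_comm B n]
    congr 1
    · exact pack_congr fun t ht => by rw [Nat.div_eq_of_lt ht, Nat.mod_eq_of_lt ht]
    · congr 1
      refine pack_congr fun t _ => ?_
      rcases Nat.eq_zero_or_pos n with rfl | hn
      · simp at *
      · rw [Nat.add_div_left t hn, Nat.add_mod_left]

theorem pack_rows (B d : ℕ) (f : ℕ → ℕ) :
    pack B (d * d) f = pack (B * d) d (fun i => pack B d (fun k => f (d * i + k))) := by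
  rw [pack_nest]
  exact pack_congr fun t _ => by rw [Nat.div_add_mod]

theorem splat_eq (d c : ℕ) : splat d c = pack 32 (d * d) (fun _ => c) := (pack_rows 32 d fun _ => c).symm

theorem col_eq {d j : ℕ} (hj : j < d) {f : ℕ → ℕ} (hf : ∀ t < d * d, f t < 2 ^ 32) :
    (pack 32 (d * d) f) >>> (32 * j) &&& colMask d = pack (32 * d) d (fun i => f (d * i + j)) := by
  have hd : 0 < 32 * d := by omega
  have hlt : ∀ i < d, ∀ k < d, d * i + k < d * d := fun i hi k hk =>
    calc d * i + k < d * (i + 1) := by rw [Nat.mul_succ]; omega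
      _ ≤ d * d := Nat.mul_le_mul_left d hi
  have hrow : ∀ i < d, pack 32 d (fun k => f (d * i + k)) < 2 ^ (32 * d) := fun i hi => by
    rw [Nat.mul_comm 32 d]; exact pack_lt fun k hk => hf _ (hlt i hi k hk)
  have hcol : ∀ i < d, f (d * i + j) < 2 ^ (32 * d) := fun i hi =>
    (hf _ (hlt i hi j hj)).trans_le (Nat.pow_le_pow_right (by norm_num) (by omega))
  have hm : ∀ i < d, (2 ^ 32 - 1 : ℕ) < 2 ^ (32 * d) := fun i _ =>
    lt_of_lt_of_le (by norm_num : 2 ^ 32 - 1 < 2 ^ 32) (Nat.pow_le_pow_right (by norm_num) (by omega))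
  refine Nat.eq_of_testBit_eq fun b => ?_
  rw [Nat.testBit_and, Nat.testBit_shiftRight, pack_rows, colMask, testBit_pack hd hrow, testBit_pack hd hm,
    testBit_pack hd hcol, Nat.testBit_two_pow_sub_one]
  have hb := Nat.div_add_mod b (32 * d)
  set q := b / (32 * d)
  set r := b % (32 * d)
  by_cases hq : q < d
  · by_cases hr : r < 32
    · have h2 : 32 * j + r < 32 * d := by omega
      have e : 32 * j + b = (32 * j + r) + 32 * d * q := by omega
      rw [e, Nat.add_mul_div_left _ _ hd, Nat.div_eq_of_lt h2, Nat.zero_add, Nat.add_mul_mod_self_left,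
        Nat.mod_eq_of_lt h2, testBit_pack (by norm_num) (fun k hk => hf _ (hlt q hq k hk)),
        show (32 * j + r) / 32 = j by omega, show (32 * j + r) % 32 = r by omega]
      simp [hq, hr, hj]
    · rw [Nat.testBit_lt_two_pow ((hf _ (hlt q hq j hj)).trans_le (Nat.pow_le_pow_right (by norm_num) (by omega))),
        decide_eq_false hr]
      simp
  · simp [hq]

theorem outer_eq (d : ℕ) (x y : ℕ → ℕ) :
    pack (32 * d) d x * pack 32 d y = pack 32 (d * d) (fun t => x (t / d) * y (t % d)) := by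
  rw [pack_mul, ← pack_nest d fun i k => x i * y k]
  refine pack_congr fun i _ => ?_
  rw [Nat.mul_comm, pack_mul]
  exact pack_congr fun k _ => Nat.mul_comm _ _

theorem macc_eq {d : ℕ} {f g : ℕ → ℕ} (hf : ∀ t < d * d, f t < 7) (hg : ∀ t < d * d, g t < 7) :
    ∀ n ≤ d, macc d (pack 32 (d * d) f) (pack 32 (d * d) g) n =
      pack 32 (d * d) (fun t => ∑ j ∈ Finset.range n, f (d * (t / d) + j) * g (d * j + t % d))
  | 0, _ => by simp [macc, pack_zero]
  | n + 1, hn => by
    show force (macc d _ _ n) (fun r => r + ((pack 32 (d * d) f) >>> (32 * n) &&& colMask d) *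
      lane (32 * d) (pack 32 (d * d) g) n) = _
    have hlane : lane (32 * d) (pack 32 (d * d) g) n = pack 32 d (fun k => g (d * n + k)) := by
      rw [pack_rows]
      refine lane_pack (by omega) (fun i hi => ?_) (show n < d by omega)
      rw [Nat.mul_comm 32 d]
      refine pack_lt fun k hk => (hg _ ?_).trans (by norm_num)
      calc d * i + k < d * (i + 1) := by rw [Nat.mul_succ]; omega
        _ ≤ d * d := Nat.mul_le_mul_left d hi
    rw [force_eq, macc_eq hf hg n (by omega), hlane,
      col_eq (by omega) (fun t ht => (hf t ht).trans (by norm_num)), outer_eq, pack_add]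
    exact pack_congr fun t _ => by rw [Finset.sum_range_succ]

theorem mred_eq {d : ℕ} {f : ℕ → ℕ} (hf : ∀ t < d * d, f t < 2 ^ 14) :
    mred d (pack 32 (d * d) f) = pack 32 (d * d) (fun t => f t % 7) := by
  have h1 : ∀ t < d * d, f t * 37450 < 2 ^ 32 := fun t ht => by have := hf t ht; omega
  have h2 : ∀ t < d * d, (2 ^ 14 - 1 : ℕ) < 2 ^ 32 := fun _ _ => by norm_num
  have hq : (pack 32 (d * d) f * 37450) >>> 18 &&& splat d (2 ^ 14 - 1) =
      pack 32 (d * d) (fun t => f t * 37450 / 2 ^ 18) := by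
    rw [pack_mul, splat_eq]
    refine Nat.eq_of_testBit_eq fun b => ?_
    rw [Nat.testBit_and, Nat.testBit_shiftRight, testBit_pack (by norm_num) h1, testBit_pack (by norm_num) h2,
      testBit_pack (by norm_num) (fun t ht => lt_of_le_of_lt (Nat.div_le_self _ _) (h1 t ht)),
      Nat.testBit_two_pow_sub_one, Nat.testBit_div_two_pow]
    by_cases hq : b / 32 < d * d
    · by_cases hr : b % 32 < 14
      · rw [show (18 + b) / 32 = b / 32 by omega, show (18 + b) % 32 = b % 32 + 18 by omega]
        simp [hq, hr]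
      · rw [Nat.testBit_lt_two_pow ((h1 _ hq).trans_le (Nat.pow_le_pow_right (by norm_num) (by omega)))]
        simp [hr]
    · simp [hq]
  show Nat.sub (pack 32 (d * d) f) (((pack 32 (d * d) f * 37450) >>> 18 &&& splat d (2 ^ 14 - 1)) * 7) = _
  rw [hq, pack_mul]
  show pack 32 (d * d) f - _ = _
  rw [pack_sub _ _ fun t ht => by have := hf t ht; omega]
  exact pack_congr fun t ht => by have := hf t ht; omega

theorem IsRep.mul {d C D : ℕ} (hd : d ≤ 100) {A B : Matrix (Fin d) (Fin d) (ZMod 7)} (hA : IsRep d C A)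
    (hB : IsRep d D B) : IsRep d (mmul d C D) (A * B) := by
  obtain ⟨f, rfl, hf, hAf⟩ := hA
  obtain ⟨g, rfl, hg, hBg⟩ := hB
  refine ⟨fun t => (∑ j ∈ Finset.range d, f (d * (t / d) + j) * g (d * j + t % d)) % 7, ?_,
    fun t _ => Nat.mod_lt _ (by norm_num), fun i k => ?_⟩
  · rw [mmul, force_eq, macc_eq hf hg d le_rfl]
    refine mred_eq fun t ht => ?_
    have hd0 : 0 < d := Nat.pos_of_ne_zero fun h => by subst h; simp at ht
    calc (∑ j ∈ Finset.range d, f (d * (t / d) + j) * g (d * j + t % d)) ≤ ∑ _j ∈ Finset.range d, 36 :=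
          Finset.sum_le_sum fun j hj => by
            have hj' := Finset.mem_range.mp hj
            have h1 : t / d < d := Nat.div_lt_of_lt_mul ht
            have h2 := Nat.mod_lt t hd0
            have a1 := hf (d * (t / d) + j) (by
              calc d * (t / d) + j < d * (t / d + 1) := by rw [Nat.mul_succ]; omega
                _ ≤ d * d := Nat.mul_le_mul_left d h1)
            have a2 := hg (d * j + t % d) (by
              calc d * j + t % d < d * (j + 1) := by rw [Nat.mul_succ]; omega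
                _ ≤ d * d := Nat.mul_le_mul_left d hj')
            exact Nat.mul_le_mul (Nat.le_of_lt_succ a1) (Nat.le_of_lt_succ a2)
      _ = 36 * d := by simp [Nat.mul_comm]
      _ < 2 ^ 14 := by omega
  · rw [Matrix.mul_apply]
    have e1 : (d * (i : ℕ) + k) / d = i := by
      rw [Nat.mul_add_div i.pos, Nat.div_eq_of_lt k.2, Nat.add_zero]
    have e2 : (d * (i : ℕ) + k) % d = k := by rw [Nat.mul_add_mod, Nat.mod_eq_of_lt k.2]
    beta_reduce
    rw [e1, e2, ZMod.natCast_mod, Nat.cast_sum, ← Fin.sum_univ_eq_sum_range]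
    exact Finset.sum_congr rfl fun j _ => by rw [hAf, hBg, Nat.cast_mul]

/-- Build a matrix from its entries. -/
def mkPack (d : ℕ) (a : ℕ → ℕ → ℕ) : ℕ := pack (32 * d) d fun i => pack 32 d fun k => a i k % 7

theorem IsRep.mk (d : ℕ) (a : ℕ → ℕ → ℕ) :
    IsRep d (mkPack d a) (Matrix.of fun i k : Fin d => (a i k : ZMod 7)) := by
  refine ⟨fun t => a (t / d) (t % d) % 7, ?_, fun _ _ => Nat.mod_lt _ (by norm_num), fun i k => ?_⟩
  · rw [mkPack, pack_nest]
  · beta_reduce
    rw [Nat.mul_add_div i.pos, Nat.div_eq_of_lt k.2, Nat.add_zero, Nat.mul_add_mod,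
      Nat.mod_eq_of_lt k.2, ZMod.natCast_mod]
    rfl

theorem IsRep.unique {d C : ℕ} {A B : Matrix (Fin d) (Fin d) (ZMod 7)} (hA : IsRep d C A) (hB : IsRep d C B) :
    A = B := by
  obtain ⟨f, rfl, hf, hAf⟩ := hA
  obtain ⟨g, hC, hg, hBg⟩ := hB
  ext i k
  rw [hAf, hBg, pack_inj (by norm_num) (fun t ht => (hf t ht).trans (by norm_num))
    (fun t ht => (hg t ht).trans (by norm_num)) hC (d * i + k)]
  calc d * (i : ℕ) + k < d * (i + 1) := by rw [Nat.mul_succ]; exact Nat.add_lt_add_left k.2 _
    _ ≤ d * d := Nat.mul_le_mul_left d i.2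

end Cfsg.Agent.ONCover
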