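import Cfsg.Agent.Lib.ONCover.Data
import Cfsg.Agent.Lib.ONCover.PackMat
import Cfsg.Agent.Lib.CosetEnum.Net

/-!
The eight matrices satisfy the relations of the presented O'Nan group up to scalars (helper41).

* `mat`, `relB`, `relB_spec`: matrices and checked values of powers of words
* `pair_check`, `inv_check`, `extra_check`
-/

set_option autoImplicit false
set_option maxRecDepth 100000

namespace Cfsg.Agent.ONCover

open Cfsg.Agent.CosetEnum

/-- entry of a matrix -/
noncomputable def entry (a i k : ℕ) : ℕ := lane 3 ((gens.getD a []).getD i 0) k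

/-- a matrix -/
noncomputable def mat (a : ℕ) : Matrix (Fin 45) (Fin 45) (ZMod 7) := Matrix.of fun i k => (entry a i k : ZMod 7)

/-- a packed scalar -/
def psc (s : ℕ) : ℕ := mkPack 45 fun i k => bif Nat.beq i k then s else 0

/-- the packed word -/
noncomputable def pword (w : List ℕ) : ℕ :=
  List.rec (motive := fun _ => ℕ) (psc 1)
    (fun a _ ih => force ih fun r => force (mkPack 45 (entry a)) fun m => mmul 45 m r) w

/-- the packed power -/
noncomputable def ppow (P : ℕ) : ℕ → ℕ := fun m =>
  Nat.rec (motive := fun _ => ℕ) (psc 1) (fun _ ih => force ih fun r => mmul 45 r P) m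

/-- check that the power of the word is a scalar -/
noncomputable def relB (w : List ℕ) (m s : ℕ) : Bool := force (pword w) fun P => Nat.beq (ppow P m) (psc s)

theorem psc_rep (s : ℕ) : IsRep 45 (psc s) ((s : ZMod 7) • (1 : Matrix (Fin 45) (Fin 45) (ZMod 7))) := by
  have h := IsRep.mk 45 fun i k => bif Nat.beq i k then s else 0
  suffices e : (Matrix.of fun i k : Fin 45 => (((bif Nat.beq i k then s else 0 : ℕ)) : ZMod 7)) =
      (s : ZMod 7) • (1 : Matrix (Fin 45) (Fin 45) (ZMod 7)) from e ▸ h
  ext i k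
  rw [Matrix.of_apply, Matrix.smul_apply, Matrix.one_apply]
  by_cases hik : i = k
  · subst hik; simp
  · have : Nat.beq (i : ℕ) k = false := by
      rw [Bool.eq_false_iff, Ne, CosetEnum.beq_iff]
      exact fun hc => hik (Fin.ext hc)
    simp [this, hik]

theorem one_rep : IsRep 45 (psc 1) (1 : Matrix (Fin 45) (Fin 45) (ZMod 7)) := by
  simpa using psc_rep 1

theorem pword_rep : ∀ w : List ℕ, IsRep 45 (pword w) (w.map mat).prod
  | [] => by rw [List.map_nil, List.prod_nil]; exact one_rep
  | a :: v => by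
    show IsRep 45 (force (pword v) fun r => force (mkPack 45 (entry a)) fun m => mmul 45 m r) _
    rw [force_eq, force_eq, List.map_cons, List.prod_cons]
    exact (IsRep.mk 45 (entry a)).mul (by norm_num) (pword_rep v)

theorem ppow_rep {P : ℕ} {A : Matrix (Fin 45) (Fin 45) (ZMod 7)} (h : IsRep 45 P A) :
    ∀ m, IsRep 45 (ppow P m) (A ^ m)
  | 0 => by rw [pow_zero]; exact one_rep
  | m + 1 => by
    show IsRep 45 (force (ppow P m) fun r => mmul 45 r P) _
    rw [force_eq, pow_succ]
    exact (ppow_rep h m).mul (by norm_num) h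

theorem relB_spec {w : List ℕ} {m s : ℕ} (h : relB w m s = true) :
    (w.map mat).prod ^ m = (s : ZMod 7) • (1 : Matrix (Fin 45) (Fin 45) (ZMod 7)) := by
  rw [relB, force_eq, CosetEnum.beq_iff] at h
  exact (ppow_rep (pword_rep w) m).unique (h ▸ psc_rep s)

/-- linked generators, as letters -/
def linked : List ((ℕ × ℕ) × ℕ) := [((2, 3), 3), ((3, 4), 3), ((4, 5), 8), ((5, 6), 3), ((6, 7), 3)]

/-- the label of two letters -/
def lab (a b : ℕ) : ℕ :=
  bif Nat.beq a b then 1 else
    match linked.find? fun p => (Nat.beq p.1.1 a && Nat.beq p.1.2 b) || (Nat.beq p.1.1 b && Nat.beq p.1.2 a) with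
    | some p => p.2
    | none => 2

theorem pair_check : ((List.range 6).all fun a => (List.range 6).all fun b =>
    relB [a + 2, b + 2] (lab (a + 2) (b + 2)) 1) = true := by decide +kernel

theorem inv_check : (relB [0, 1] 1 1 && relB [1, 0] 1 1 && relB [0] 4 2 && relB [0] 8 4) = true := by
  decide +kernel

/-- the further relators with their values -/
def extraWords : List (List ℕ × ℕ × ℕ) := [
  ([2, 7, 1, 1], 1, 2),
  ([2, 7, 5, 4, 5, 4, 5, 4, 5, 4], 1, 1),
  ([4, 1, 5, 1, 5, 4, 5, 0, 5, 0], 1, 1),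
  ([5, 1, 4, 1, 4, 5, 4, 0, 4, 0], 1, 1),
  ([3, 4, 5, 0], 5, 2),
  ([0, 3, 4, 0, 4, 3, 0, 3, 4, 0, 4], 1, 1),
  ([0, 6, 5, 0, 5, 6, 0, 6, 5, 0, 5], 1, 1)]

theorem extra_check : (extraWords.all fun p => relB p.1 p.2.1 p.2.2) = true := by decide +kernel

end Cfsg.Agent.ONCover
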