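import Cfsg.Prelude.Def_Spor_ON
import Cfsg.Agent.Lib.ONCover.Rels

/-!
The images of the relators are scalar cube roots of unity (helper41).

* `U`, `Sc`, `F`, `lifted`
-/

set_option autoImplicit false
set_option maxRecDepth 10000

namespace Cfsg.Agent.ONCover

open Matrix Cfsg.Spor

local instance : Fact (Nat.Prime 7) := ⟨by norm_num⟩

/-- number of a generator -/
def idx : ON.Gen → ℕ
  | .g => 0
  | .a => 2
  | .b => 3
  | .c => 4
  | .d => 5
  | .e => 6
  | .f => 7

/-- the inverse letter -/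
def linv : ℕ → ℕ
  | 0 => 1
  | 1 => 0
  | k + 2 => k + 2

theorem mat_linv {k : ℕ} (hk : k < 8) : mat k * mat (linv k) = 1 ∧ mat (linv k) * mat k = 1 := by
  have hi := inv_check
  simp only [Bool.and_eq_true] at hi
  have h01 := relB_spec hi.1.1.1
  have h10 := relB_spec hi.1.1.2
  simp at h01 h10
  match k, hk with
  | 0, _ => exact ⟨h01, h10⟩
  | 1, _ => exact ⟨h10, h01⟩
  | k + 2, hk =>
    have h := List.all_eq_true.mp (List.all_eq_true.mp pair_check k (List.mem_range.mpr (by omega))) k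
      (List.mem_range.mpr (by omega))
    have h2 := relB_spec h
    simp [lab] at h2
    exact ⟨h2, h2⟩

/-- A letter as an invertible matrix. -/
noncomputable def U (k : ℕ) : GL (Fin 45) (ZMod 7) :=
  if h : k < 8 then ⟨mat k, mat (linv k), (mat_linv h).1, (mat_linv h).2⟩ else 1

theorem U_val {k : ℕ} (hk : k < 8) : (U k : Matrix (Fin 45) (Fin 45) (ZMod 7)) = mat k := by
  rw [U, dif_pos hk]

theorem U_inv {k : ℕ} (hk : k < 8) : (U k)⁻¹ = U (linv k) := by
  apply Units.ext
  have hl : linv k < 8 := by match k, hk with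
    | 0, _ => decide
    | 1, _ => decide
    | k + 2, hk => exact hk
  rw [U_val hl, U, dif_pos hk]
  rfl

attribute [irreducible] U

/-- The scalar matrices with cube one. -/
noncomputable def Sc : Subgroup (GL (Fin 45) (ZMod 7)) where
  carrier := {z | ∃ s : ZMod 7, s ^ 3 = 1 ∧ (z : Matrix (Fin 45) (Fin 45) (ZMod 7)) = s • 1}
  one_mem' := ⟨1, one_pow 3, by simp⟩
  mul_mem' := by
    rintro x y ⟨s, hs, hx⟩ ⟨t, ht, hy⟩
    refine ⟨s * t, by rw [mul_pow, hs, ht, one_mul], ?_⟩
    rw [Units.val_mul, hx, hy, smul_mul_smul_comm, one_mul]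
  inv_mem' := by
    rintro x ⟨s, hs, hx⟩
    refine ⟨s ^ 2, by rw [← pow_mul, show 2 * 3 = 3 * 2 by norm_num, pow_mul, hs, one_pow], ?_⟩
    refine Units.inv_eq_of_mul_eq_one_right ?_
    rw [hx, smul_mul_smul_comm, one_mul, ← pow_succ', hs, one_smul]

theorem Sc_central {z : GL (Fin 45) (ZMod 7)} (hz : z ∈ Sc) : z ∈ Subgroup.center (GL (Fin 45) (ZMod 7)) := by
  obtain ⟨s, -, hz⟩ := hz
  rw [Subgroup.mem_center_iff]
  intro y
  apply Units.ext
  rw [Units.val_mul, Units.val_mul, hz, Matrix.mul_smul, Matrix.smul_mul, mul_one, one_mul]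

theorem word_mem {w : List ℕ} {m s : ℕ} (hw : ∀ k ∈ w, k < 8) (h : relB w m s = true)
    (hs : (s : ZMod 7) ^ 3 = 1) : (w.map U).prod ^ m ∈ Sc := by
  refine ⟨s, hs, ?_⟩
  rw [Units.val_pow_eq_pow_val, ← Units.coeHom_apply, map_list_prod, List.map_map, ← relB_spec h]
  refine congrArg (fun z => z ^ m) (congrArg List.prod (List.map_congr_left fun k hk => ?_))
  exact U_val (hw k hk)

/-- The map of the free group. -/
noncomputable def F : FreeGroup ON.Gen →* GL (Fin 45) (ZMod 7) := FreeGroup.lift fun x => U (idx x)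

theorem label_eq (x y : ON.Gen) (hx : 2 ≤ idx x) (hy : 2 ≤ idx y) :
    coxLabel ON.edges x y = lab (idx x) (idx y) := by
  cases x <;> cases y <;> first | rfl | exact absurd hx (by decide) | exact absurd hy (by decide)

theorem node_ge {x : ON.Gen} (h : x ∈ coxNodes ON.edges) : 2 ≤ idx x := by
  cases x <;> first | decide | (revert h; decide)

theorem extra_mem {p : List ℕ × ℕ × ℕ} (h : p ∈ extraWords) : (p.1.map U).prod ^ p.2.1 ∈ Sc := by
  refine word_mem ?_ (List.all_eq_true.mp extra_check p h) ?_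
  · have : (extraWords.all fun q => q.1.all fun k => Nat.blt k 8) = true := by decide
    exact fun k hk => Nat.blt_eq.mp (List.all_eq_true.mp (List.all_eq_true.mp this p h) k hk)
  · simp only [extraWords, List.mem_cons, List.not_mem_nil, or_false] at h
    rcases h with rfl | rfl | rfl | rfl | rfl | rfl | rfl <;> decide

theorem lifted : ∀ r ∈ coxRelators ON.edges ∪ {r | r ∈ ON.extra}, F r ∈ Sc := by
  have i0 : (U 0)⁻¹ = U 1 := U_inv (by decide)
  have i2 : (U 2)⁻¹ = U 2 := U_inv (by decide)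
  have i3 : (U 3)⁻¹ = U 3 := U_inv (by decide)
  have i4 : (U 4)⁻¹ = U 4 := U_inv (by decide)
  have i5 : (U 5)⁻¹ = U 5 := U_inv (by decide)
  have i6 : (U 6)⁻¹ = U 6 := U_inv (by decide)
  have i7 : (U 7)⁻¹ = U 7 := U_inv (by decide)
  rintro r (⟨x, hx, y, hy, rfl⟩ | hr)
  · obtain ⟨a, ha⟩ : ∃ a, idx x = a + 2 := ⟨idx x - 2, by have := node_ge hx; omega⟩
    obtain ⟨b, hb⟩ : ∃ b, idx y = b + 2 := ⟨idx y - 2, by have := node_ge hy; omega⟩
    have hxl : idx x < 8 := by cases x <;> decide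
    have hyl : idx y < 8 := by cases y <;> decide
    have h := List.all_eq_true.mp (List.all_eq_true.mp pair_check a (List.mem_range.mpr (by omega))) b
      (List.mem_range.mpr (by omega))
    rw [← ha, ← hb, ← label_eq x y (by omega) (by omega)] at h
    have h2 := word_mem (w := [idx x, idx y]) (by simp [hxl, hyl]) h (by norm_num)
    simpa [F] using h2
  · simp only [ON.extra, List.mem_cons, List.not_mem_nil, or_false, Set.mem_ofPred_eq] at hr
    rcases hr with rfl | rfl | rfl | rfl | rfl | rfl | rfl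
    · have h := extra_mem (p := ([2, 7, 1, 1], 1, 2)) (by simp [extraWords])
      simpa [F, ON.g, ON.a, ON.f, idx, i0, i2, i3, i4, i5, i6, i7, _root_.mul_inv_rev, mul_assoc, pow_succ] using h
    · have h := extra_mem (p := ([2, 7, 5, 4, 5, 4, 5, 4, 5, 4], 1, 1)) (by simp [extraWords])
      simpa [F, ON.a, ON.f, ON.c, ON.d, idx, i0, i2, i3, i4, i5, i6, i7, _root_.mul_inv_rev, mul_assoc, pow_succ] using h
    · have h := extra_mem (p := ([4, 1, 5, 1, 5, 4, 5, 0, 5, 0], 1, 1)) (by simp [extraWords])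
      simpa [F, ON.g, ON.c, ON.d, idx, i0, i2, i3, i4, i5, i6, i7, _root_.mul_inv_rev, mul_assoc, pow_succ] using h
    · have h := extra_mem (p := ([5, 1, 4, 1, 4, 5, 4, 0, 4, 0], 1, 1)) (by simp [extraWords])
      simpa [F, ON.g, ON.c, ON.d, idx, i0, i2, i3, i4, i5, i6, i7, _root_.mul_inv_rev, mul_assoc, pow_succ] using h
    · have h := extra_mem (p := ([3, 4, 5, 0], 5, 2)) (by simp [extraWords])
      simpa [F, ON.g, ON.b, ON.c, ON.d, idx, mul_assoc] using h
    · have h := extra_mem (p := ([0, 3, 4, 0, 4, 3, 0, 3, 4, 0, 4], 1, 1)) (by simp [extraWords])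
      simpa [F, ON.g, ON.b, ON.c, idx, i0, i2, i3, i4, i5, i6, i7, _root_.mul_inv_rev, mul_assoc, pow_succ] using h
    · have h := extra_mem (p := ([0, 6, 5, 0, 5, 6, 0, 6, 5, 0, 5], 1, 1)) (by simp [extraWords])
      simpa [F, ON.g, ON.d, ON.e, idx, i0, i2, i3, i4, i5, i6, i7, _root_.mul_inv_rev, mul_assoc, pow_succ] using h

attribute [irreducible] F

end Cfsg.Agent.ONCover
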