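import Cfsg.Agent.S1699
import Cfsg.Agent.Lib.ONCover.Lifted
import Cfsg.Agent.Lib.ONCover.Generic

/-!
A triple cover of the presented O'Nan group inside SL(45, 7) (helper41).

* `exists_cover`
-/

set_option autoImplicit false
set_option maxRecDepth 10000

namespace Cfsg.Agent.ONCover

open Matrix Cfsg.Spor

local instance : Fact (Nat.Prime 7) := ⟨by norm_num⟩

theorem F_gen (x : ON.Gen) (hx : idx x < 8) :
    ((F (FreeGroup.of x) : GL (Fin 45) (ZMod 7)) : Matrix (Fin 45) (Fin 45) (ZMod 7)) = mat (idx x) := by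
  rw [F, FreeGroup.lift_apply_of, U_val hx]

theorem F_g4 : ((F (ON.g ^ 4) : GL (Fin 45) (ZMod 7)) : Matrix (Fin 45) (Fin 45) (ZMod 7)) = (2 : ZMod 7) • 1 := by
  have hi := inv_check
  simp only [Bool.and_eq_true] at hi
  have h := relB_spec hi.1.2
  rw [List.map_cons, List.map_nil, List.prod_cons, List.prod_nil, mul_one] at h
  rw [map_pow, Units.val_pow_eq_pow_val, F_gen _ (by decide), show idx ON.Gen.g = 0 from rfl, h]
  norm_num

theorem off_diag : ((List.range 45).any fun i => (List.range 45).any fun k =>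
    !Nat.beq i k && !Nat.beq (entry 2 i k % 7) 0) = true := by decide +kernel

theorem F_a : F ON.a ∉ Subgroup.center (GL (Fin 45) (ZMod 7)) := by
  intro h
  obtain ⟨s, hs⟩ := exists_scalar_of_center h
  rw [F_gen _ (by decide), show idx ON.Gen.a = 2 from rfl] at hs
  have h4 := off_diag
  simp only [List.any_eq_true, List.mem_range, Bool.and_eq_true, Bool.not_eq_true'] at h4
  obtain ⟨i, hi, k, hk, hik, hne⟩ := h4
  have hne' : (⟨i, hi⟩ : Fin 45) ≠ ⟨k, hk⟩ := fun he => by
    rw [Fin.mk.injEq] at he; subst he; simp at hik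
  have h5 := congrFun (congrFun hs ⟨i, hi⟩) ⟨k, hk⟩
  rw [Matrix.smul_apply, Matrix.one_apply_ne hne', smul_zero, mat, Matrix.of_apply, ZMod.natCast_eq_zero_iff,
    Nat.dvd_iff_mod_eq_zero] at h5
  rw [h5] at hne
  exact absurd hne (by decide)

theorem exists_cover : ∃ H : Subgroup (Matrix.SpecialLinearGroup (Fin 45) (ZMod 7)),
    Nat.card (Subgroup.center H) = 3 ∧ Cfsg.IsON (H ⧸ Subgroup.center H) :=
  cover_generic Cfsg.Agent.S1699.result (Fintype.card_fin 45) F lifted ON.a F_a (ON.g ^ 4) F_g4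

end Cfsg.Agent.ONCover
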